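import Cfsg.Agent.SM.Uc.At_m3
import Cfsg.Agent.SporadicStructure.FieldNine
import Cfsg.Agent.SM.Sp.Enum_m3
import Cfsg.Agent.SM.O8.Spin_m3
import Cfsg.Agent.SM.Tx.Main_m3
import Cfsg.Agent.SM.Op.RJ_m3
import Cfsg.Agent.J2.HundredAbs
import Cfsg.Agent.S0283
import Cfsg.Agent.Lib.ListFast
import Cfsg.Agent.Prune
set_option linter.all false

section
prune_inst 0x7f00000000000000000000000000000000000000000000000000000000000000000000000000000000000000000000000000000000000000000000000000000000000000000000000000000000000000003fffffffffffffffffffffffffffbeffbdffffffff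

-- part: SM/Uc/R28
section
set_option linter.all false
open scoped Cfsg.Agent.FastGrp

/-!
# SM (S3570): `U₃(3)` on 28 points is not maximal (helper64)

The normaliser of `U₃(3)` keeps the two-graph of `Sp₆(2)` and the lines of the unital; an element of order five keeps the
two-graph only.
-/

set_option autoImplicit false
set_option linter.unusedSectionVars false

namespace Cfsg.Agent.SM.Uc.R28

open Cfsg Equiv Subgroup MulAction Matrix Cfsg.Agent.SM.U Cfsg.Agent.SporadicStructure.FieldNine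
open Cfsg.Agent.LieClassical.HermBasic

/-- the square of the triple product -/
def sq3 (u v w : Fin 3 → K9) : K9 := (hermForm 3 K9 3 u v * hermForm 3 K9 3 v w * hermForm 3 K9 3 w u) ^ 2

theorem pow8 : ∀ a : K9, a ≠ 0 → a ^ 8 = 1 := by decide +kernel

theorem sq3_smul {a b c : K9} (ha : a ≠ 0) (hb : b ≠ 0) (hc : c ≠ 0) (u v w : Fin 3 → K9) :
    sq3 (a • u) (b • v) (c • w) = sq3 u v w := by
  have h : sq3 (a • u) (b • v) (c • w) = a ^ 8 * b ^ 8 * c ^ 8 * sq3 u v w := by
    simp only [sq3, herm_smul_left, herm_smul_right]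
    ring
  rw [h, pow8 a ha, pow8 b hb, pow8 c hc, one_mul, one_mul, one_mul]

/-- the points -/
def pt (j : Fin 28) : Fin 3 → K9 := fun i => K9.mk ([333, 414, 576, 657, 325, 406, 568, 649, 91, 172, 253, 496, 100, 181, 262,
  505, 109, 190, 271, 514, 37, 46, 136, 217, 298, 541, 64, 73].getD j 0 / 9 ^ i.1)

theorem pt_ok : ∀ j, pt j ≠ 0 ∧ hermForm 3 K9 3 (pt j) (pt j) = 0 := by decide +kernel

/-- the norm -/
private def nm (a : K9) : K9 := K9.mk ([0, 1, 1, 1, 2, 2, 1, 2, 2].getD (Fin.val a) 0)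

private theorem nm_eq : ∀ a : K9, a * a ^ 3 = nm a := by decide +kernel

/-- the point and the factor -/
private def jd (a b c : K9) : ℕ := 0x55537a95fc894bb00509421e8482ed67afa63e30c7c421c8b283bfa3663b14beb3ed6a6b443487603cc5fb3dc78d1983aabc006f4fb2ac747903aee9a22a7eaed237c32ca9165ad4392c9da5e4996921771b15513ef97f4baab1356ffc3c0fb11a61677ba77a58d4547930997bd1bf7f6f7a64dd1535ee2e9911084b12fab090fbe37afc5318f401282f65c0c1be4b41f19f6f8851fcb827f44a400634a6b6b89578e53fdb00181a9de88c0ffb557c4c07e6e9df9220c2a06ab0a9e795c6be7a49618fd615404b7295416ba36fb3829e6e705b01477d46f5845bdd5c89fe7d4391c14418aca5059779098382b669f90fa86cf801f95ba830f43ce0539f2529b0eba97aaa000ba87cdfdb35442bc274db7459046f9282c7cba9eecef3b4b5ba8feaf1de32cbac9a91627bffda64bc77ead9542c5c0cdbb67efc1d9c046d693649e2c16c5d876e4bf67bc41595521712f4b8cd86852968dc6f597be502d5df183f4eb85f9c89c7320477611b9aecdc1d4405096f558270db8c33d63fde2ee63642942f583199a15a03c465775665aa47c525d819aaee4635aa25354014c1505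0654c0fdb1c5f0067a531e19ef446342e0b1c8d492dfed8ca629a071c9601b1df9de5114c0f5ab9d58dc938bacfb996332b6070478915f34c9705b1bfde0fb79c224307093dd183a4125c551d17849158cd3007aad41249d8a939c96ac31d0bdf83b7e15009b39153b198aae22d42b97c4f0b14a71ea6ca1ee76a607e0e50e81ba212d1627b58206995c5be7b0dd44155c470de0f0012ca8af51d082e42f7620d7c856dc7c9f7520e75129747f893b9c5ec91683fc71ef018b3aa4bd96858a3dab080cb5388ac61d68e80a9d8eee969b2956e5b11fb476f9b8c6993417580c19830b83d4b0687d4d9d2245e45a81692b59e9fc989acd5a63d46384c42b19f9004af325148d7ba71153dc96fa6cc4640f26818e97a2be10fd5de7603b5ba8502438230f51aaf6bef3075fff4c2bcdbbe0b09bfde53b9bac3c9f3a40 / 257 ^ (Fin.val a + 9 * Fin.val b + 81 * Fin.val c) % 257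

private theorem pt_jd : ∀ a b c : K9, nm a + nm b + nm c = 0 → (a = 0 ∧ b = 0 ∧ c = 0) ∨ (K9.mk (jd a b c) ≠ 0 ∧
    pt (Fin.ofNat 28 (jd a b c / 9)) 0 = K9.mk (jd a b c) * a ∧ pt (Fin.ofNat 28 (jd a b c / 9)) 1 = K9.mk (jd a b c) * b ∧
      pt (Fin.ofNat 28 (jd a b c / 9)) 2 = K9.mk (jd a b c) * c) := by decide +kernel

theorem pt_all : ∀ a b c : K9, hermForm 3 K9 3 ![a, b, c] ![a, b, c] = 0 → ![a, b, c] ≠ 0 →
    ∃ j, ∃ d : K9, d ≠ 0 ∧ pt j = d • ![a, b, c] := by
  intro a b c h1 h2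
  have h3 : a * a ^ 3 + b * b ^ 3 + c * c ^ 3 = 0 := (Fin.sum_univ_three fun i => ![a, b, c] i * ![a, b, c] i ^ 3).symm.trans h1
  rw [nm_eq, nm_eq, nm_eq] at h3
  rcases pt_jd a b c h3 with ⟨rfl, rfl, rfl⟩ | ⟨h4, h5, h6, h7⟩
  · exact absurd (funext fun i => by fin_cases i <;> rfl) h2
  · exact ⟨_, _, h4, funext fun i => by
      fin_cases i
      exacts [h5, h6, h7]⟩

/-- the element of order five -/
def p5 : Perm (Fin 28) :=
  ⟨![0, 9, 4, 10, 13, 24, 27, 5, 14, 20, 22, 7, 16, 6, 3, 18, 19, 11, 1, 26, 15, 21, 8, 23, 17, 12, 25, 2],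
    ![0, 18, 27, 14, 2, 7, 13, 11, 22, 1, 3, 17, 25, 4, 8, 20, 12, 24, 15, 16, 9, 21, 10, 23, 5, 26, 19, 6],
    by decide +kernel, by decide +kernel⟩

/-- the switching -/
def eps (j : Fin 28) : K9 := K9.mk ([1, 2, 2, 2, 2, 1, 2, 1, 2, 2, 1, 1, 1, 2, 1, 1, 1, 2, 1, 2, 1, 1, 1, 1, 2, 2, 1, 1].getD j 0)

theorem eps_sq : ∀ j, eps j ^ 2 = 1 := by decide +kernel

/-- the form -/
private def hf (u v : Fin 3 → K9) : K9 := u 0 * (v 0 * v 0 * v 0) + u 1 * (v 1 * v 1 * v 1) + u 2 * (v 2 * v 2 * v 2)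

private theorem hf_eq (u v : Fin 3 → K9) : hermForm 3 K9 3 u v ^ 4 = nm (hf u v) := by
  rw [← nm_eq, ← pow_succ', hf, ← pow_three', ← pow_three', ← pow_three']
  exact congrArg (· ^ 4) (Fin.sum_univ_three fun i => u i * v i ^ 3)

theorem switch : ∀ i j, hermForm 3 K9 3 (pt (p5 i)) (pt (p5 j)) ^ 4 = eps i * eps j * hermForm 3 K9 3 (pt i) (pt j) ^ 4 := by
  simp only [hf_eq]
  decide +kernel

theorem sq3_p5 (i j k : Fin 28) : sq3 (pt (p5 i)) (pt (p5 j)) (pt (p5 k)) ^ 2 = sq3 (pt i) (pt j) (pt k) ^ 2 := by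
  have h : ∀ u v w, sq3 u v w ^ 2 = hermForm 3 K9 3 u v ^ 4 * hermForm 3 K9 3 v w ^ 4 * hermForm 3 K9 3 w u ^ 4 :=
    fun u v w => by rw [sq3]; ring
  rw [h, h, switch, switch, switch]
  linear_combination (hermForm 3 K9 3 (pt i) (pt j) ^ 4 * hermForm 3 K9 3 (pt j) (pt k) ^ 4 *
    hermForm 3 K9 3 (pt k) (pt i) ^ 4) * (eps j ^ 2 * eps k ^ 2 * eps_sq i + eps k ^ 2 * eps_sq j + eps_sq k)

theorem sign_p5 : Perm.sign p5 = 1 := by
  have h : p5 ^ 5 = 1 := Perm.ext (by decide +kernel)
  have h1 := congrArg Perm.sign h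
  rw [map_pow, map_one] at h1
  rcases Int.units_eq_one_or (Perm.sign p5) with k | k
  · exact k
  · rw [k] at h1
    exact absurd h1 (by decide)

variable {Ω : Type} [Fintype Ω] [DecidableEq Ω] {X H T M S : Subgroup (Perm Ω)}

/-- the invariant relations -/
def Rl (e : S ≃* PSU 3 K9 3) (r : K9 → Prop) (x : Fin 3 → Ω) : Prop :=
  ∃ w : Fin 3 → Fin 3 → K9, (∀ i, At e (x i) (w i)) ∧ r (sq3 (w 0) (w 1) (w 2))

theorem le_Rl (u : Up X H T M S) (e : S ≃* PSU 3 K9 3) {r : K9 → Prop} (hr : ∀ (ρ : K9 ≃+* K9) t, r t → r (ρ t)) :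
    M ≤ relStab (Rl e r) := le_relStab fun g hg x ⟨w, h1, h2⟩ => by
  obtain ⟨ρ, φ, h3, h4⟩ := At.norm K9.card_K9' le_rfl (by decide) e (u.socM.as.le_normalizer hg)
  refine ⟨fun i => φ (w i), fun i => h4 _ _ (h1 i), ?_⟩
  have h5 := hr ρ _ h2
  simp only [sq3, map_mul, map_pow, h3] at h5 ⊢
  exact h5

/-- **Row 1 is dead** (over the explicit field). -/
theorem dead (u : Up X H T M S) (e : S ≃* PSU 3 K9 3) (hΩ : Fintype.card Ω = 28) : False := by
  have hF := K9.card_K9'
  obtain ⟨a⟩ : Nonempty Ω := Fintype.card_pos_iff.1 (by omega)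
  obtain ⟨w, hw⟩ := At.of_index hF le_rfl u e a fun B hB => eq_Sb28 hF B (hB.trans hΩ)
  choose β hβ using fun j => hw.all' hF le_rfl (pt_ok j).1 (pt_ok j).2
  have h1 : ∀ {x v}, At e x v → ∃ j, ∃ d : K9, d ≠ 0 ∧ pt j = d • v ∧ x = β j := fun {x v} h => by
    have hv : ![v 0, v 1, v 2] = v := funext fun i => by fin_cases i <;> rfl
    obtain ⟨j, d, hd, k⟩ := pt_all (v 0) (v 1) (v 2) (by rw [hv]; exact h.iso) (by rw [hv]; exact h.ne)
    rw [hv] at k
    exact ⟨j, d, hd, k, At.eq u (hβ j) (k ▸ h.smul hd)⟩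
  have hb : Function.Bijective β := (Fintype.bijective_iff_surjective_and_card β).2 ⟨fun x => by
    obtain ⟨v, hv⟩ := hw.all hF le_rfl u x
    obtain ⟨j, -, -, -, k⟩ := h1 hv
    exact ⟨j, k.symm⟩, by rw [hΩ, Fintype.card_fin]⟩
  have h2 : ∀ (r : K9 → Prop) (j : Fin 3 → Fin 28), Rl e r (β ∘ j) ↔ r (sq3 (pt (j 0)) (pt (j 1)) (pt (j 2))) := fun r j => by
    refine ⟨fun ⟨v, h3, h4⟩ => ?_, fun h => ⟨fun i => pt (j i), fun i => hβ _, h⟩⟩
    choose j' d hd k k' using fun i => h1 (h3 i)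
    have h5 : ∀ i, pt (j i) = d i • v i := fun i => by rw [hb.1 (k' i), k]
    rwa [h5, h5, h5, sq3_smul (hd 0) (hd 1) (hd 2)]
  let b := Equiv.ofBijective β hb
  have h3 : ∀ j : Fin 3 → Fin 28, (b.permCongr p5) ∘ β ∘ j = β ∘ p5 ∘ j := fun j => funext fun i => by
    show b (p5 (b.symm (b (j i)))) = _
    rw [b.symm_apply_apply]
    rfl
  have h4 : b.permCongr p5 ∈ M := by
    refine u.mem_of_le (le_Rl u e (r := fun t => t ^ 2 = 1) fun ρ t h => by rw [← map_pow, h, map_one])
      (not_alt_le_relStab (by omega) (x := β ∘ ![0, 1, 2]) (y := β ∘ ![0, 1, 4]) (hb.1.comp (by decide))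
        (hb.1.comp (by decide)) ((h2 _ _).2 (by decide +kernel)) fun h => absurd ((h2 _ _).1 h) (by decide +kernel))
      (fun x => ?_) (Perm.mem_alternatingGroup.2 (by rw [Perm.sign_permCongr, sign_p5]))
    obtain ⟨j, rfl⟩ : ∃ j : Fin 3 → Fin 28, x = β ∘ j := ⟨b.symm ∘ x, funext fun i => (b.apply_symm_apply _).symm⟩
    rw [h3, h2, h2]
    simp only [Function.comp_apply, sq3_p5]
  have h5 := le_Rl u e (r := fun t => t = -1) (fun ρ t h => by rw [h, map_neg, map_one]) h4 (β ∘ ![0, 1, 2])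
  rw [h3, h2, h2] at h5
  exact absurd h5 (by decide +kernel)

end Cfsg.Agent.SM.Uc.R28

private theorem dce_cffe639cfd5d : _root_.True := by
  try have : _root_.True := by simp only [_root_.Cfsg.Agent.SM.Uc.R28.sq3.eq_1]
  exact _root_.True.intro
end

-- part: SM/L/Fin
section
set_option linter.all false

/-!
# SM/L: the family `fL` from the case `n = 2` (helper18)
-/

set_option autoImplicit false

namespace Cfsg.Agent.SM.L

theorem bnd_of_two (h : BoxTwo) : Bnd fL tabL := bnd_of Her.boxHer boxK1 boxK2 h RA.boxRA RB.boxRB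

end Cfsg.Agent.SM.L
end

-- part: SM/Sy/C6U
section
set_option linter.all false
open scoped Cfsg.Agent.FastGrp

/-!
# SM (S3570), symplectic socles, the rows `U₃(3) < Sp₆(2)` of degrees 28 and 36 (helper42)
-/

set_option autoImplicit false
set_option linter.unusedVariables false
set_option linter.unusedSectionVars false

namespace Cfsg.Agent.SM.Sy.C6

open Cfsg Equiv Subgroup MulAction Cfsg.Agent.J2

/-- the model on 63 points -/
abbrev G0 : Type := closure (Set.range U33.sig)

/-- the generators -/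
def g0 (s : Fin 4) : G0 := ⟨U33.sig s, subset_closure ⟨s, rfl⟩⟩

theorem g0_top : closure (Set.range g0) = ⊤ :=
  eq_top_iff.2 ((closure_preimage_eq_top _).ge.trans (closure_mono fun x ⟨s, hs⟩ => ⟨s, Subtype.ext hs⟩))

theorem g0_iso : Nonempty (PSU 3 U33.K9 3 ≃* G0) :=
  SporadicStructure.PsuMatch.psu_iso_closure_of_match (K := U33.K9) (X := Fin 63) (ι := Fin 4) (n := 3) (q := 3)
    U33.card_k9 le_rfl U33.vec (fun i j c hc h => U33.vec_nonprop i j c hc h) U33.su U33.sig
    (fun j i => U33.su_mulVec j i) (by rw [HundredAbs.card_psu_three]; exact U33.card_closure_sig)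

theorem g0_card : Nat.card G0 = 6048 := g0_iso.elim fun e => (Nat.card_congr e.toEquiv).symm.trans HundredAbs.card_psu_three

theorem g0_simple : IsSimpleGroup G0 := g0_iso.elim fun e =>
  e.isSimpleGroup_congr.1 (S0283.result (by rw [U33.card_k9]; norm_num) 3 le_rfl (by norm_num))

theorem hom_of {n : ℕ} {N : Fin n → ℕ} (h1 : ((List.finRange n).map fun i => N i % 2 ^ 63).Nodup) {σ : Fin 4 → Fin n → Fin n}
    (h2 : ∀ s i x, (N (σ s i)).testBit (U33.tab s x) = (N i).testBit x) : ∃ θ : G0 →* Perm (Fin n), ∀ s i, θ (g0 s) i = σ s i :=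
  exists_hom ((onSet 63).comp (Subgroup.subtype _)) (ms_inj h1) g0_top fun s i => ms_map (h2 s i)

variable {Ω : Type} [Fintype Ω] [DecidableEq Ω] {X H T M S : Subgroup (Perm Ω)}

theorem rho_of (u : Up X H T M S) (hT : Nat.card T = 6048) :
    ∃ ρ : G0 →* Perm Ω, (∀ x, ρ x ∈ H) ∧ ∀ a b, ∃ x, ρ x a = b := by
  obtain ⟨e⟩ := iso_of_card u.socH.simple g0_simple (hT.trans g0_card.symm) (by rw [g0_card]; norm_num)
    (by rw [g0_card]; norm_num) (by rw [g0_card]; norm_num) (by rw [g0_card]; norm_num)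
  refine ⟨T.subtype.comp e.symm.toMonoidHom, fun x => u.socH.le (e.symm x).2, fun a b => ?_⟩
  obtain ⟨t, ht, k⟩ := u.trans a b
  exact ⟨e ⟨t, ht⟩, (congrArg (fun z : T => (z : Perm Ω) a) (e.symm_apply_apply ⟨t, ht⟩)).trans k⟩

/-! ### degree 28 -/

/-- 28 sets of 9 points -/
def m28 (i : Fin 28) : ℕ := List.getD [36314808555439112, 1170971157285896324, 9187343239835811841, 74379780329374752, 297237646275805472, 2314886496664436738, 2310417115301021956,
    577034699537385608, 289365210131730434, 577586686640276484, 2323857425039499784, 1153489952656335120, 76570058578993216, 35888059530608641,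
    72204932891283972, 4629772993328873474, 144431866761449536, 145259234253144328, 288406573057838096, 578730420263460866, 4613938368267948176,
    36662665611067456, 17112760321, 1153079868926361664, 4380866641921, 148623469217726624, 45044835324854800, 4611986185173076512] i 0

/-- the action -/
def s28 : Fin 4 → Fin 28 → Fin 28 := tb 28 [2850876913462686958405015944733875194885163477394595282701435338753, 1798968835832350145482233315997177012364619322708901998008540856578,
    2007139612173976784314053426604879068913867167953686711892632273923, 2534507847717951748232087926124535718651311329912303663664708649728]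

/-- words which move `0` -/
def w1 (i : Fin 28) : List (Fin 4) := wd 4 [[], [0], [1], [2], [2, 0], [0, 1], [2, 1], [3, 1], [1, 2], [1, 2, 0], [2, 0, 1], [3, 0, 1], [1, 2, 1], [3, 2, 1], [0, 3, 1], [1, 3, 1], [3, 1, 2], [0,
    1, 2, 0], [2, 1, 2, 0], [3, 1, 2, 0], [1, 2, 0, 1], [3, 2, 0, 1], [1, 3, 0, 1], [0, 1, 2, 1], [2, 1, 2, 1], [3, 1, 2, 1], [2, 1, 3, 1], [1, 0, 1, 2,
    0]] i

/-- words which fix `0` -/
def w2 (i : Fin 28) : List (Fin 4) := wd 4 [[], [], [1, 3, 2, 3, 1], [3], [0, 3, 2], [0, 1, 0], [3, 0, 1, 0, 3], [2, 3, 1, 0], [2, 0, 3, 1, 0], [0, 1, 0, 2, 3, 1, 3, 2], [0, 3, 2, 0, 1, 0, 3],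
    [3, 0, 1, 0], [0, 3, 2, 0, 1, 3, 2], [0, 1, 0, 3], [3, 2, 3, 1, 0, 3], [0, 1, 0, 2, 3, 1, 0], [0, 3, 2, 0, 1, 0], [0, 1, 3, 2], [2, 1, 0, 3, 2, 1], [0,
    1, 0, 2, 3, 1, 0, 3], [2, 3, 1, 0, 3], [2, 0, 3, 1, 0, 3], [0, 3, 1, 0, 3, 2, 1], [2, 0, 1, 0, 3, 2, 1], [3, 2, 3, 1, 3, 2], [2, 0, 3, 1, 3, 2], [3, 0,
    1, 3, 2], [2, 3, 1, 3, 2]] i

/-- the data -/
def d28 : Dat 28 4 5 where
  yw j := wd 4 [[0], [1, 0, 1], [1], [3, 2, 1, 0, 1, 2, 3], [2, 1, 2, 3, 1, 3]] j
  τ := tb 28 [2850876913462686958405015944733875194885163477394595282701435338753, 427836100144856155809055909329307290932510414741701480222377968133,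
    1798968835832350145482233315997177012364619322708901998008540856578, 844582576497639495516369179753614347760082640173311178254486344978,
    2107103982448414717852628325494005877943391924804327983575662396698]
  sq j := wd 5 [[], [], [], [], [2]] j
  cj j l := wd 5 [[], [], [], [], [], [0], [], [], [], [], [1], [0], [], [], [], [1], [0], [2, 1, 0], [], [], [3, 1, 0], [3], [2], [0], []] (5 * j + l)
  R := 3
  o i := 105313911185420627553924152321404119455832280531708302822048006144 >>> (8 * i.val) % 256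
  rep j := pk 28 459520 j
  u i := wd 5 [[], [0], [2], [], [2, 3], [1], [4], [], [2], [3], [0, 4], [4, 2, 1], [4, 2], [2, 1], [0], [2], [3, 2], [3, 1], [3], [4, 3], [4, 3, 2], [3, 0], [4, 1],
    [0, 4, 2], [3], [1], [4], [3, 2]] i
  tw := [[0], [1], [2], [3]]
  oL := [0, 0, 0, 1, 1, 0, 1, 2, 1, 1, 1, 1, 1, 1, 2, 2, 0, 1, 0, 1, 1, 0, 1, 1, 2, 1, 0, 1]
  pL := [[(0, 0), (0, 0), (0, 0), (1, 1), (1, 1), (0, 0), (1, 1), (2, 2), (1, 1), (1, 1), (1, 1), (1, 1), (1, 1), (1, 1), (2, 2), (2, 2), (0, 0), (1, 1), (0,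
    0), (1, 1), (1, 1), (0, 0), (1, 1), (1, 1), (2, 2), (1, 1), (0, 0), (1, 1)], [(0, 0), (0, 0), (0, 0), (1, 1), (1, 1), (0, 0), (1, 1), (2, 2), (1, 1),
    (1, 1), (1, 1), (1, 1), (1, 1), (1, 1), (2, 2), (2, 2), (0, 0), (1, 1), (0, 0), (1, 1), (1, 1), (0, 0), (1, 1), (1, 1), (2, 2), (1, 1), (0, 0), (1,
    1)], [(1, 0), (1, 0), (1, 0), (0, 1), (0, 1), (1, 0), (0, 1), (2, 2), (2, 1), (0, 1), (0, 1), (1, 1), (2, 1), (1, 1), (1, 2), (0, 2), (1, 0), (1, 1),
    (1, 0), (1, 1), (0, 1), (0, 0), (1, 1), (1, 1), (1, 2), (1, 1), (2, 0), (1, 1)], [(0, 0), (1, 0), (2, 0), (0, 1), (1, 1), (1, 0), (1, 1), (0, 2), (0,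
    1), (1, 1), (0, 1), (0, 1), (1, 1), (1, 1), (1, 2), (2, 2), (1, 0), (0, 1), (1, 0), (1, 1), (2, 1), (1, 0), (0, 1), (1, 1), (1, 2), (1, 1), (1, 0), (2,
    1)]]
  sv := [2]
  i₀ := 0

theorem d28_ok : d28.Ok s28 :=
  ⟨by decide +kernel, by decide +kernel, by decide +kernel, by decide +kernel, by decide +kernel, by decide +kernel,
    by decide +kernel, by decide +kernel⟩

theorem w1_ok : ∀ i, ev s28 (w1 i) 0 = i := by decide +kernel

theorem w2_ok : ∀ i, i ≠ 0 → ev s28 (w2 i) 0 = 0 ∧ ev s28 (w2 i) 1 = i := by decide +kernel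

theorem fix28 {θ : G0 →* Perm (Fin 28)} (h : ∀ s i, θ (g0 s) i = s28 s i) {B : Subgroup G0} (hB : Nat.card B = 216) :
    ∃ i, ∀ x ∈ B, θ x i = i := by
  have hw := wp_ev θ (P := id) (g := g0) h
  have h01 : ∀ a b : Fin 28, a ≠ b → ∃ t, θ t 0 = a ∧ θ t 1 = b := fun a b hab => by
    obtain ⟨b, rfl⟩ := (θ (wp g0 (w1 a))).surjective b
    have h1 : θ (wp g0 (w1 a)) 0 = a := (hw _ _).trans (w1_ok a)
    have h2 := w2_ok b fun e => hab (e ▸ h1.symm)
    refine ⟨wp g0 (w1 a) * wp g0 (w2 b), ?_, ?_⟩ <;> rw [map_mul, Perm.mul_apply]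
    · rw [show θ (wp g0 (w2 b)) 0 = 0 from (hw _ _).trans h2.1, h1]
    · rw [show θ (wp g0 (w2 b)) 1 = b from (hw _ _).trans h2.2]
  let _ := Alt.act θ
  have := g0_simple
  have A : Alt.Act G0 (Fin 28) 28 := ⟨inferInstance, Nat.card_fin 28, fun t ht => by
    rcases (inferInstance : θ.ker.Normal).eq_bot_or_eq_top with e | e
    · exact mem_bot.1 (e.le (Perm.ext ht))
    · obtain ⟨t, h1, -⟩ := h01 1 0 (by decide)
      rw [MonoidHom.mem_ker.1 (e.ge (mem_top t))] at h1
      exact absurd h1 (by decide), fun a b x y h1 h2 => by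
    obtain ⟨s, s1, s2⟩ := h01 a b h1
    obtain ⟨t, t1, t2⟩ := h01 x y h2
    exact ⟨t * s⁻¹, by rw [mul_smul, ← s1, ← t1]; exact congrArg (θ t) (inv_smul_smul s 0),
      by rw [mul_smul, ← s2, ← t2]; exact congrArg (θ t) (inv_smul_smul s 1)⟩⟩
  have := Fact.mk Nat.prime_three
  obtain ⟨P, hP⟩ := Sylow.exists_subgroup_card_pow_prime (G := B) 3 (n := 3) (by rw [hB]; norm_num)
  obtain ⟨x, hx⟩ := (IsPGroup.of_card hP).nonempty_fixed_point_of_prime_not_dvd_card (Fin 28) (by simp)
  refine ⟨x, fun b hb => ?_⟩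
  by_contra hy
  have h1 := A.card_eq hy
  rw [g0_card] at h1
  have h8 : Nat.card ↥(stabilizer G0 (θ b x) ⊓ stabilizer G0 x) = 8 := by omega
  have fx : ∀ p : P, θ p.1.1 x = x := fun p => hx p
  have hf : Function.Bijective fun p : P => (⟨θ p.1.1 (θ b x), fun e => hy ((θ p.1.1).injective (e.trans (fx p).symm))⟩ :
      {z // z ≠ x}) := (Nat.bijective_iff_injective_and_card _).2 ⟨fun p q e => by
    have h2 : (q⁻¹ * p).1.1 ∈ stabilizer G0 (θ b x) ⊓ stabilizer G0 x := ⟨by
      show θ (q.1.1⁻¹ * p.1.1) _ = _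
      rw [map_mul, map_inv, Perm.mul_apply, Perm.inv_eq_iff_eq]
      exact congrArg Subtype.val e, fx _⟩
    have h3 := h8 ▸ Subgroup.orderOf_dvd_natCard _ h2
    rw [Subgroup.orderOf_coe, Subgroup.orderOf_coe] at h3
    have h4 := hP ▸ orderOf_dvd_natCard (q⁻¹ * p)
    exact (inv_mul_eq_one.1 (orderOf_eq_one_iff.1 (Nat.eq_one_of_dvd_coprimes (by norm_num) h3 h4))).symm, by
    rw [hP, Nat.card_eq_fintype_card, Fintype.card_subtype_compl, Fintype.card_fin, Fintype.card_unique]
    rfl⟩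
  have h5 := card_St (θ.comp B.subtype) x fun z => by
    by_cases hz : z = x
    · exact ⟨1, by rw [map_one, hz]; rfl⟩
    · obtain ⟨p, hp⟩ := hf.2 ⟨z, hz⟩
      exact ⟨p.1 * ⟨b, hb⟩, by rw [map_mul]; exact congrArg Subtype.val hp⟩
  rw [hB, Fintype.card_fin] at h5
  omega

/-! ### degree 36 -/

/-- 36 sets of 21 points -/
def m36 (i : Fin 36) : ℕ := List.getD [3496757340397900064, 7089233540373812232, 2669246078548832388, 4900338667711457743, 820235910818696208, 1308380631480141391, 2025500007838810628,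
    119404903649208321, 2040483443518861840, 2882809593814057459, 4900422793800411137, 491211802760456066, 488791769347918084, 5847150442888169608,
    2887370934943194739, 815566225204871312, 806295534809679746, 119346764717464015, 1316261928601753601, 3502712581491919392, 5232095423698731132,
    1316179329978035827, 5850449560671896072, 3497960288827873154, 2028100080183550076, 7082061222723731580, 5244587131518730512, 127286200768659955,
    4905040746393896527, 5838512530825693058, 5237864780450099464, 2676552736267313312, 2887427546409703425, 2693734091128311932, 7063485967897850912,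
    471605907795616772] i 0

/-- the action -/
def s36 : Fin 4 → Fin 36 → Fin 36 := tb 36 [58539058367892193721258261213865430775184690136886848602048623373745647489030398476800,
    68176399791915836759683287265734348783233329108016432826550994076297093148007934984960,
    68252403868405804935342352086600082555667302296572127316936055213445140419166771216640,
    48825418520230533815707749447254268705041060425354100309759881930892364048956488024065]

/-- words which move `0` -/
def v1 (i : Fin 36) : List (Fin 4) := wd 4 [[], [3], [0, 3], [1, 3], [1, 0, 3], [0, 1, 3], [2, 1, 3], [3, 1, 3], [0, 1, 0, 3], [3, 1, 0, 3], [1, 0, 1, 3], [2, 0, 1, 3], [3, 0, 1, 3], [0, 2, 1,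
    3], [1, 2, 1, 3], [2, 3, 1, 3], [1, 0, 1, 0, 3], [2, 0, 1, 0, 3], [1, 3, 1, 0, 3], [2, 3, 1, 0, 3], [2, 1, 0, 1, 3], [3, 1, 0, 1, 3], [3, 2, 0, 1, 3],
    [1, 3, 0, 1, 3], [2, 3, 0, 1, 3], [1, 0, 2, 1, 3], [2, 0, 2, 1, 3], [3, 0, 2, 1, 3], [0, 2, 0, 1, 0, 3], [0, 1, 3, 1, 0, 3], [2, 1, 3, 1, 0, 3], [1, 3,
    1, 0, 1, 3], [0, 1, 3, 0, 1, 3], [3, 1, 3, 0, 1, 3], [1, 2, 3, 0, 1, 3], [3, 1, 0, 2, 1, 3]] i

/-- the data -/
def d36 : Dat 36 4 5 where
  yw j := wd 4 [[0], [1, 0, 1], [1], [3, 2, 1, 0, 1, 2, 3], [2, 1, 2, 3, 1, 3]] j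
  τ := tb 36 [58539058367892193721258261213865430775184690136886848602048623373745647489030398476800,
    58538345667583014201930094048258783610319003416709900405866876168649827588635020495360,
    68176399791915836759683287265734348783233329108016432826550994076297093148007934984960,
    68251810320891350047498473066609755374067704734145196690284583786502765983987049038100,
    52687457081372871889617570574263351268840255739781828031231003486250562201426380523015]
  sq j := wd 5 [[], [], [], [], [2]] j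
  cj j l := wd 5 [[], [], [], [], [], [0], [], [], [], [], [1], [0], [], [], [], [1], [0], [2, 1, 0], [], [], [3, 1, 0], [3], [2], [0], []] (5 * j + l)
  R := 5
  o i := 5858390754291796348580323684805936281173576953484269832904526121361699346834771738880 >>> (8 * i.val) % 256
  rep j := pk 36 90513867008 j
  u i := wd 5 [[], [], [0], [2], [2, 0], [2, 1], [4], [4], [3, 2], [4, 0], [1], [4, 3], [], [0, 4], [4, 2], [3], [1, 0], [4], [4, 2, 0], [], [3], [], [0], [2], [4,
    2], [4, 3, 2], [3, 1], [3], [3, 2], [4, 2, 1], [4], [2], [1], [4, 1], [4], [4, 3]] i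
  tw := [[0], [1], [2], [3]]
  oL := [0, 1, 1, 1, 1, 1, 1, 0, 1, 1, 1, 0, 2, 1, 1, 2, 1, 2, 1, 3, 0, 4, 2, 2, 4, 1, 2, 3, 2, 1, 3, 4, 2, 1, 4, 3]
  pL := [[(0, 0), (1, 1), (1, 1), (1, 1), (1, 1), (1, 1), (1, 1), (0, 0), (1, 1), (1, 1), (1, 1), (0, 0), (2, 2), (1, 1), (1, 1), (2, 2), (1, 1), (2, 2), (1,
    1), (3, 3), (0, 0), (4, 4), (2, 2), (2, 2), (4, 4), (1, 1), (2, 2), (3, 3), (2, 2), (1, 1), (3, 3), (4, 4), (2, 2), (1, 1), (4, 4), (3, 3)], [(0, 0),
    (1, 1), (1, 1), (1, 1), (1, 1), (1, 1), (1, 1), (0, 0), (1, 1), (1, 1), (1, 1), (0, 0), (2, 2), (1, 1), (1, 1), (2, 2), (1, 1), (2, 2), (1, 1), (3, 3),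
    (0, 0), (4, 4), (2, 2), (2, 2), (4, 4), (1, 1), (2, 2), (3, 3), (2, 2), (1, 1), (3, 3), (4, 4), (2, 2), (1, 1), (4, 4), (3, 3)], [(0, 0), (1, 1), (1,
    1), (1, 1), (1, 1), (0, 1), (1, 1), (2, 0), (2, 1), (3, 1), (0, 1), (1, 0), (4, 2), (2, 1), (1, 1), (0, 2), (4, 1), (1, 2), (3, 1), (1, 3), (1, 0), (1,
    4), (3, 2), (2, 2), (2, 4), (4, 1), (1, 2), (2, 3), (2, 2), (1, 1), (1, 3), (1, 4), (2, 2), (1, 1), (4, 4), (3, 3)], [(1, 0), (0, 1), (1, 1), (0, 1),
    (1, 1), (2, 1), (1, 1), (1, 0), (1, 1), (1, 1), (4, 1), (2, 0), (1, 2), (3, 1), (1, 1), (2, 2), (1, 1), (2, 2), (1, 1), (2, 3), (0, 0), (1, 4), (0, 2),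
    (1, 2), (2, 4), (3, 1), (4, 2), (1, 3), (3, 2), (4, 1), (3, 3), (1, 4), (2, 2), (2, 1), (4, 4), (1, 3)]]
  sv := [2, 12, 20, 26]
  i₀ := 0

theorem d36_ok : d36.Ok s36 :=
  ⟨by decide +kernel, by decide +kernel, by decide +kernel, by decide +kernel, by decide +kernel, by decide +kernel,
    by decide +kernel, by decide +kernel⟩

theorem v1_ok : ∀ i, ev s36 (v1 i) 0 = i := by decide +kernel

/-- an element of order 7 -/
def cw : List (Fin 4) := [0, 1, 2]

/-- its orbits -/
def oc (i : Fin 36) : ℕ := 7808737471675746026777182172906095151081457640505677265939526937667858162821179244800 >>> (8 * i.val) % 256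

/-- the orbitals -/
def col : Fin 36 → Fin 36 → Fin 4 := tb 4 [3908163068914045995711217679223809650362455578151802079533096258441041676035313172736,
    1965523819915467651324850234833305015165783121164350222825929490515231617277203906561,
    3908192596347347512648915704915262581341140901948700065757280334036538356080085827841,
    1950287433192965591974841130285240107053458251000354932193676345146680581571993534721,
    3892985852399683304499819158492954920474597152852960033620678256168633954692084335361,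
    3892956093832735564664386891709406262253654074545213754210346124681855947590674219521,
    1950287434095824442077003678688444806860711742706256065198561362386484694267600175361,
    5835625218549035600633789289917829313597725852406221405557064052652103916751675326721,
    1950316844383618039836658007464501225240346626281211557735591447056357016118373843201,
    1950287318303721374413893281609696806917916215865712121117144243633528251964683518211,
    3908133195005561921614619725889787245206461160010362152488732854247546345305898287361,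
    3892956094740894956065785502353390968758298948256463979983373398405118436256799326721,
    5835684271608154087556833465313246888616278292057234341099438756033972571539601686786,
    1950287202511639038737907997741948677801818996918857472809644604061961291302491456001,
    1957935269101131201492701954864684004605810721964572675678241491176012020115296026881,
    5835625217642643056506970882107486269569672623087298381068968484458036283419752792321,
    1965464302781606545585978283519124960947372591358669431360201618159617279181736444161,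
    1950316844385384887111238210298142887716938444895452166548827644031151201499570438401,
    1957875867759352431429815287418252079503542011915568515895521531105111545704049869571,
    1950287317851408525724493449950193537183844262647162807144658032077340942053467554051,
    3908133194555015920201857009146085818067700877726463848912167574455719910876714696961,
    1965464302327526850148559707368285934953647609539014330346246131897093301154242167041,
    1950346487160243470299283916324833950519263800469912886728396815851736819478846046466,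
    5835624986058478385157057194994602820764468950825854553455923491226743683213043041026,
    5835684272064000630268832256851931796148794758679866420107771077046724280745294102786,
    1957905394742107946954745775552349715613732396470756706597775734145025606057956934401,
    1950287201610547035911148404451046243492234634193903719785174651215522352057267847681,
    1950346487609022624648091013571816529557663532285994352678982841613747275616602882306,
    5835654744625405446923200802245818388065753129644248918808283663652287952888598168321,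
    1957875751967256346287989159888035538040060007236585335952501736455545199046294700291,
    1957875867757585584260135993836638667807591865451477329675466411120993210401611121411,
    1957905394289795098581694213868865043923738806382958159009289668984816038787001025281,
    1950287085818450950558283103494640940758898783176850878408845242850457564972637684226,
    1950257559736787438070741612802788671746276227091267757321731471330529463406579286531,
    5828036436606381022269459430088166886135670969714927789537870658444776583084502024706,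
    15206859741534150048792338807451690817046452257736680909273779731728722432962527491]

private noncomputable def _root_.Cfsg.Agent.LsF.f4f9347_0 : {f // @Cfsg.Agent.SM.Sy.C6.pk = f} := ⟨_, by first | (delta Cfsg.Agent.SM.Sy.C6.pk; rewrite [Cfsg.Agent.LsF.nmul_pat, Cfsg.Agent.LsF.nmod_pat, Cfsg.Agent.LsF.nshr_pat]; exact rfl) | exact rfl⟩
private noncomputable def _root_.Cfsg.Agent.LsF.f4f9347_1 : {f // @Cfsg.Agent.SM.Sy.C6.tb = f} := ⟨_, by first | (delta Cfsg.Agent.SM.Sy.C6.tb; rewrite [Cfsg.Agent.LsF.f4f9347_0.2, Cfsg.Agent.LsF.getD_eq]; exact rfl) | exact rfl⟩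
private noncomputable def _root_.Cfsg.Agent.LsF.f4f9347_2 : {f // @Cfsg.Agent.SM.Sy.C6.col = f} := ⟨_, by first | (delta Cfsg.Agent.SM.Sy.C6.col; rewrite [Cfsg.Agent.LsF.f4f9347_1.2]; exact rfl) | exact rfl⟩
private noncomputable def _root_.Cfsg.Agent.LsF.f4f9347_3 : {f // @Cfsg.Agent.SM.Sy.C6.s36 = f} := ⟨_, by first | (delta Cfsg.Agent.SM.Sy.C6.s36; rewrite [Cfsg.Agent.LsF.f4f9347_1.2]; exact rfl) | exact rfl⟩
theorem col_ok : ∀ s i j, col (s36 s i) (s36 s j) = col i j := by (refine of_decide_eq_true ?_; (try (rewrite [Cfsg.Agent.LsF.f4f9347_2.2, Cfsg.Agent.LsF.f4f9347_3.2, Cfsg.Agent.LsF.dFinEq_eq, Cfsg.Agent.LsF.dForallFin_eq, Cfsg.Agent.LsF.decide_eq])); decide +kernel)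

theorem oc_ok : ∀ i, oc i < 6 ∧ ev (fun _ : Fin 1 => ev s36 cw) (wd 1 [[], [], [], [], [0, 0, 0, 0, 0, 0], [0], [0, 0, 0, 0, 0, 0], [0, 0], [0], [], [0, 0, 0, 0, 0], [0, 0, 0], [], [0, 0], [0], [0, 0], [0, 0, 0, 0], [0,
    0, 0, 0], [0, 0, 0, 0], [0], [0, 0, 0, 0, 0, 0], [0, 0, 0, 0, 0], [0, 0, 0, 0, 0], [0, 0, 0, 0], [0, 0], [0, 0, 0, 0], [0, 0, 0], [0, 0, 0, 0, 0, 0],
    [0, 0, 0], [0, 0], [0, 0, 0, 0, 0, 0], [0, 0, 0, 0, 0], [0, 0, 0], [0, 0, 0], [0], [0, 0, 0, 0, 0]] i) (pk 36 13232844701952 (oc i)) = i := by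
  decide +kernel

set_option synthInstance.maxSize 2000 in
theorem cc_ok : ∀ c < (64 : ℕ), c.testBit (oc 0) = true → (List.finRange 36).countP (fun i => c.testBit (oc i)) ∣ 168 →
    (∀ i j, c.testBit (oc i) = true → c.testBit (oc j) = true → ∃ x, c.testBit (oc x) = true ∧ col i j = col 0 x) →
    ∀ i, c.testBit (oc i) = true → i = 0 := by
  decide +kernel

private noncomputable def _root_.Cfsg.Agent.LsF.f4f9347_5 : {f // @Cfsg.Agent.SM.Sy.C6.ev = f} := ⟨_, by first | (delta Cfsg.Agent.SM.Sy.C6.ev; rewrite [Cfsg.Agent.LsF.foldr_eq]; exact rfl) | exact rfl⟩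
private noncomputable def _root_.Cfsg.Agent.LsF.f4f9347_6 : {f // @Cfsg.Agent.J2.U33.tab = f} := ⟨_, by first | (delta Cfsg.Agent.J2.U33.tab; rewrite [Cfsg.Agent.LsF.getD_eq]; exact rfl) | exact rfl⟩
theorem cw_ord : orderOf (wp g0 cw) = 7 := by
  have hw := wp_ev (Subgroup.subtype _) (P := id) (g := g0) (σ := U33.tab) fun _ _ => rfl
  have := Fact.mk Nat.prime_seven
  refine orderOf_eq_prime (Subtype.ext (Perm.ext fun x => ?_)) fun e => ?_
  · have h1 : ∀ x, (wp g0 cw).1 x = ev U33.tab cw x := hw cw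
    simp only [pow_succ, pow_zero, one_mul, Subgroup.coe_mul, Perm.mul_apply, h1]
    revert x
    (refine of_decide_eq_true ?_; (try (rewrite [Cfsg.Agent.LsF.f4f9347_5.2, Cfsg.Agent.LsF.f4f9347_6.2, Cfsg.Agent.LsF.dFinEq_eq, Cfsg.Agent.LsF.dForallFin_eq, Cfsg.Agent.LsF.decide_eq])); decide +kernel)
  · have h1 := hw cw 0
    rw [e] at h1
    exact absurd h1 (by decide +kernel)

theorem fix36 {θ : G0 →* Perm (Fin 36)} (h : ∀ s i, θ (g0 s) i = s36 s i) {B : Subgroup G0} (hB : Nat.card B = 168)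
    (hc : wp g0 cw ∈ B) : ∀ x ∈ B, θ x 0 = 0 := by
  classical
  have hw := wp_ev θ (P := id) (g := g0) h
  let U : Finset (Fin 36) := Finset.univ.filter fun i => ∃ b : B, θ b 0 = i
  have hU : ∀ i, i ∈ U ↔ ∃ b : B, θ b 0 = i := fun i => by simp only [U, Finset.mem_filter, Finset.mem_univ, true_and]
  have h1 := card_orb (θ.comp B.subtype) 0 U hU
  have h2 : ∀ b ∈ B, ∀ i, θ b i ∈ U ↔ i ∈ U := fun b hb => H454.Reg.Alt.mem_stab_of fun i hi => by
    obtain ⟨x, rfl⟩ := (hU i).1 hi
    exact (hU _).2 ⟨⟨b, hb⟩ * x, by rw [Subgroup.coe_mul, map_mul]; rfl⟩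
  obtain ⟨c, hc1, hc2⟩ := exists_code (Equiv.refl _) (y := fun _ : Fin 1 => θ (wp g0 cw)) (fun _ i => hw cw i) oc _ _ oc_ok
    fun _ => h2 _ hc
  have h3 := card_lab (Equiv.refl _) (· ∈ U) _ hc2
  rw [Finset.filter_univ_mem] at h3
  have h4 : ∀ (x : G0) i j, col (θ x i) (θ x j) = col i j := fun x => by
    induction (g0_top.ge (mem_top x) : x ∈ closure (Set.range g0)) using closure_induction with
    | mem x hx =>
      obtain ⟨s, rfl⟩ := hx
      intro i j
      rw [h, h, col_ok]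
    | one => intro i j; rw [map_one]; rfl
    | mul x y _ _ k1 k2 => intro i j; rw [map_mul, Perm.mul_apply, Perm.mul_apply, k1, k2]
    | inv x _ k1 =>
      intro i j
      rw [← k1, ← Perm.mul_apply, ← Perm.mul_apply, ← map_mul, mul_inv_cancel, map_one]
      rfl
  refine fun x hx => cc_ok c hc1 ((hc2 0).1 ((hU 0).2 ⟨1, by rw [Subgroup.coe_one, map_one]; rfl⟩))
    (h3 ▸ hB ▸ Dvd.intro_left _ h1) (fun i j hi hj => ?_) _ ((hc2 _).1 ((hU _).2 ⟨⟨x, hx⟩, rfl⟩))
  obtain ⟨b, rfl⟩ := (hU i).1 ((hc2 i).2 hi)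
  obtain ⟨j, rfl⟩ := (θ b).surjective j
  exact ⟨j, (hc2 j).1 ((h2 b b.2 j).1 ((hc2 _).2 hj)), h4 b 0 j⟩

end Cfsg.Agent.SM.Sy.C6

namespace Cfsg.Agent.SM.Sy

open Cfsg Equiv Subgroup MulAction C6

private noncomputable def _root_.Cfsg.Agent.LsF.f4f9347_7 : {f // @Cfsg.Agent.SM.Sy.C6.m28 = f} := ⟨_, by first | (delta Cfsg.Agent.SM.Sy.C6.m28; rewrite [Cfsg.Agent.LsF.getD_eq]; exact rfl) | exact rfl⟩
private noncomputable def _root_.Cfsg.Agent.LsF.f4f9347_8 : {f // @Cfsg.Agent.SM.Sy.C6.s28 = f} := ⟨_, by first | (delta Cfsg.Agent.SM.Sy.C6.s28; rewrite [Cfsg.Agent.LsF.f4f9347_1.2]; exact rfl) | exact rfl⟩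
theorem cnt6a : Cnt6 3 6048 28 := cnt6_of (by norm_num) fun Ω _ _ X H T M S u hT hn => by
  obtain ⟨ρ, h1, h2⟩ := rho_of u hT
  obtain ⟨θ, hθ⟩ := hom_of (N := m28) (by decide +kernel) (σ := s28) (by (refine of_decide_eq_true ?_; (try (rewrite [Cfsg.Agent.LsF.f4f9347_7.2, Cfsg.Agent.LsF.f4f9347_8.2, Cfsg.Agent.LsF.f4f9347_6.2, Cfsg.Agent.LsF.testBit_eq, Cfsg.Agent.LsF.dBoolEq_eq, Cfsg.Agent.LsF.dForallFin_eq, Cfsg.Agent.LsF.decide_eq])); decide +kernel))
  obtain ⟨a⟩ : Nonempty Ω := Fintype.card_pos_iff.1 (by omega)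
  have h3 := card_St ρ a (h2 a)
  rw [hn, g0_card] at h3
  obtain ⟨i, hi⟩ := fix28 hθ (B := St ρ a) (by omega)
  obtain ⟨β, hβ⟩ := exists_lab' ρ θ hn (P := id) Function.injective_id hθ w1 w1_ok (a := a) (i := i) hi
  exact row_of β (fun s => h1 _) hβ d28_ok

private noncomputable def _root_.Cfsg.Agent.LsF.f4f9347_9 : {f // @Cfsg.Agent.SM.Sy.C6.m36 = f} := ⟨_, by first | (delta Cfsg.Agent.SM.Sy.C6.m36; rewrite [Cfsg.Agent.LsF.getD_eq]; exact rfl) | exact rfl⟩
theorem cnt6b : Cnt6 3 6048 36 := cnt6_of (by norm_num) fun Ω _ _ X H T M S u hT hn => by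
  obtain ⟨ρ, h1, h2⟩ := rho_of u hT
  obtain ⟨θ, hθ⟩ := hom_of (N := m36) (by decide +kernel) (σ := s36) (by (refine of_decide_eq_true ?_; (try (rewrite [Cfsg.Agent.LsF.f4f9347_9.2, Cfsg.Agent.LsF.f4f9347_3.2, Cfsg.Agent.LsF.f4f9347_6.2, Cfsg.Agent.LsF.testBit_eq, Cfsg.Agent.LsF.dBoolEq_eq, Cfsg.Agent.LsF.dForallFin_eq, Cfsg.Agent.LsF.decide_eq])); decide +kernel))
  obtain ⟨a⟩ : Nonempty Ω := Fintype.card_pos_iff.1 (by omega)
  have h3 : ∀ a, Nat.card (St ρ a) = 168 := fun a => by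
    have := card_St ρ a (h2 a)
    rw [hn, g0_card] at this
    omega
  have := Fact.mk Nat.prime_seven
  obtain ⟨C, hC⟩ := Sylow.exists_subgroup_card_pow_prime (G := St ρ a) 7 (n := 1) (by rw [h3]; norm_num)
  obtain ⟨g, hg⟩ := conj_syl (p := 7) (k := 1) (by rw [g0_card]; norm_num) ((card_map_of_injective (St ρ a).subtype_injective).trans hC)
    (D := zpowers (wp g0 cw)) (by rw [Nat.card_zpowers, cw_ord, pow_one])
  obtain ⟨β, hβ⟩ := exists_lab ρ θ hn (P := id) Function.injective_id hθ v1 v1_ok (a := ρ g a)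
    (fix36 hθ (h3 _) (mem_St'.2 (map_subtype_le _ ((hg _).1 (mem_zpowers _)))))
  exact row_of β (fun s => h1 _) hβ d36_ok

end Cfsg.Agent.SM.Sy
end
end
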